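import Groth.Prelude.Def_DiffOp
import Mathlib.RingTheory.Kaehler.Basic
import Mathlib.Algebra.BigOperators.Group.Finset.Powerset

set_option autoImplicit false
set_option linter.unusedSectionVars false

open scoped TensorProduct BigOperators

namespace Groth.Agent.Diff16

open _root_.Diff16

universe u v

section

variable {A B : Type u} [CommRing A] [CommRing B] [Algebra A B]
variable {M N P : Type v} [AddCommGroup M] [Module A M] [Module B M] [IsScalarTower A B M]
  [AddCommGroup N] [Module A N] [Module B N] [IsScalarTower A B N]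
  [AddCommGroup P] [Module A P] [Module B P] [IsScalarTower A B P]

theorem comm_apply (D : M →ₗ[A] N) (b : B) (m : M) :
    commutator A B M N D b m = D (b • m) - b • D m := rfl

theorem comm_zero (b : B) : commutator A B M N 0 b = 0 := by
  ext m; simp [comm_apply]

theorem comm_add (D E : M →ₗ[A] N) (b : B) :
    commutator A B M N (D + E) b = commutator A B M N D b + commutator A B M N E b := by
  ext m; simp only [comm_apply, LinearMap.add_apply, smul_add]; abel

theorem comm_neg (D : M →ₗ[A] N) (b : B) :
    commutator A B M N (-D) b = -commutator A B M N D b := by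
  ext m; simp only [comm_apply, LinearMap.neg_apply, smul_neg]; abel

theorem comm_smul (D : M →ₗ[A] N) (c b : B) :
    commutator A B M N (c • D) b = c • commutator A B M N D b := by
  ext m; simp only [comm_apply, LinearMap.smul_apply, smul_sub, smul_comm b c]

theorem comm_comm (D : M →ₗ[A] N) (b c : B) :
    commutator A B M N (commutator A B M N D b) c =
      commutator A B M N (commutator A B M N D c) b := by
  ext m; simp only [comm_apply, smul_sub, smul_comm b c]; abel

theorem comm_mul (D : M →ₗ[A] N) (b c : B) :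
    commutator A B M N D (b * c) =
      (commutator A B M N D b) ∘ₗ (LinearMap.lsmul B M c).restrictScalars A +
        b • commutator A B M N D c := by
  ext m; simp [comm_apply, mul_smul, smul_sub]

theorem comm_add_right (D : M →ₗ[A] N) (b c : B) :
    commutator A B M N D (b + c) = commutator A B M N D b + commutator A B M N D c := by
  ext m; simp only [comm_apply, LinearMap.add_apply, add_smul, map_add]; abel

theorem comm_algebraMap (D : M →ₗ[A] N) (a : A) :
    commutator A B M N D (algebraMap A B a) = 0 := by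
  ext m; simp [comm_apply, algebraMap_smul]

theorem comm_comp (D : M →ₗ[A] N) (E : N →ₗ[A] P) (b : B) :
    commutator A B M P (E ∘ₗ D) b =
      E ∘ₗ commutator A B M N D b + commutator A B N P E b ∘ₗ D := by
  ext m; simp [comm_apply, map_sub]

theorem isDiffOpLE_zero_iff_comm (D : M →ₗ[A] N) :
    IsDiffOpLE A B M N 0 D ↔ ∀ b, commutator A B M N D b = 0 := by
  simp only [IsDiffOpLE, LinearMap.ext_iff, comm_apply, LinearMap.zero_apply, sub_eq_zero]

theorem isDiffOpLE_succ_iff (n : ℕ) (D : M →ₗ[A] N) :
    IsDiffOpLE A B M N (n + 1) D ↔ ∀ b, IsDiffOpLE A B M N n (commutator A B M N D b) := Iff.rfl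

theorem IsDiffOpLE.zero : ∀ n : ℕ, IsDiffOpLE A B M N n (0 : M →ₗ[A] N)
  | 0 => fun b m => by simp
  | n + 1 => fun b => by rw [comm_zero]; exact IsDiffOpLE.zero n

theorem IsDiffOpLE.succ : ∀ {n : ℕ} {D : M →ₗ[A] N}, IsDiffOpLE A B M N n D →
    IsDiffOpLE A B M N (n + 1) D
  | 0, D, h => fun b => by
    rw [(isDiffOpLE_zero_iff_comm D).1 h b]; exact IsDiffOpLE.zero 0
  | _ + 1, _, h => fun b => IsDiffOpLE.succ (h b)

theorem IsDiffOpLE.mono {n m : ℕ} (hnm : n ≤ m) {D : M →ₗ[A] N}
    (h : IsDiffOpLE A B M N n D) : IsDiffOpLE A B M N m D := by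
  induction hnm with
  | refl => exact h
  | step _ ih => exact IsDiffOpLE.succ ih

theorem IsDiffOpLE.add : ∀ {n : ℕ} {D E : M →ₗ[A] N}, IsDiffOpLE A B M N n D →
    IsDiffOpLE A B M N n E → IsDiffOpLE A B M N n (D + E)
  | 0, D, E, hD, hE => fun b m => by simp [hD b m, hE b m]
  | _ + 1, D, E, hD, hE => fun b => by rw [comm_add]; exact IsDiffOpLE.add (hD b) (hE b)

theorem IsDiffOpLE.smul : ∀ {n : ℕ} {D : M →ₗ[A] N} (c : B), IsDiffOpLE A B M N n D →
    IsDiffOpLE A B M N n (c • D)
  | 0, D, c, hD => fun b m => by simp [hD b m, smul_comm b c]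
  | _ + 1, D, c, hD => fun b => by rw [comm_smul]; exact IsDiffOpLE.smul c (hD b)

theorem IsDiffOpLE.neg {n : ℕ} {D : M →ₗ[A] N} (hD : IsDiffOpLE A B M N n D) :
    IsDiffOpLE A B M N n (-D) := by
  simpa using IsDiffOpLE.smul (-1 : B) hD

theorem IsDiffOpLE.sub {n : ℕ} {D E : M →ₗ[A] N} (hD : IsDiffOpLE A B M N n D)
    (hE : IsDiffOpLE A B M N n E) : IsDiffOpLE A B M N n (D - E) := by
  rw [sub_eq_add_neg]; exact IsDiffOpLE.add hD (IsDiffOpLE.neg hE)

theorem IsDiffOpLE.sum {ι : Type*} {n : ℕ} (s : Finset ι) (D : ι → M →ₗ[A] N)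
    (hD : ∀ i ∈ s, IsDiffOpLE A B M N n (D i)) : IsDiffOpLE A B M N n (∑ i ∈ s, D i) := by
  classical
  induction s using Finset.induction_on with
  | empty => simpa using IsDiffOpLE.zero n
  | insert i t hi ih =>
    rw [Finset.sum_insert hi]
    exact IsDiffOpLE.add (hD i (by simp)) (ih fun j hj => hD j (by simp [hj]))

theorem IsDiffOpLE.comp_le : ∀ (k : ℕ) {n n' : ℕ}, n + n' = k → ∀ {D : M →ₗ[A] N} {E : N →ₗ[A] P},
    IsDiffOpLE A B M N n D → IsDiffOpLE A B N P n' E → IsDiffOpLE A B M P k (E ∘ₗ D)
  | 0, n, n', hk, D, E, hD, hE => by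
    obtain ⟨rfl, rfl⟩ : n = 0 ∧ n' = 0 := by omega
    intro b m
    simp [hD b m, hE b (D m)]
  | k + 1, n, n', hk, D, E, hD, hE => fun b => by
    rw [comm_comp]
    refine IsDiffOpLE.add ?_ ?_
    · cases n with
      | zero => rw [(isDiffOpLE_zero_iff_comm D).1 hD b, LinearMap.comp_zero]; exact IsDiffOpLE.zero k
      | succ n => exact IsDiffOpLE.comp_le k (by omega) (hD b) hE
    · cases n' with
      | zero => rw [(isDiffOpLE_zero_iff_comm E).1 hE b, LinearMap.zero_comp]; exact IsDiffOpLE.zero k
      | succ n' => exact IsDiffOpLE.comp_le k (by omega) hD (hE b)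

theorem IsDiffOpLE.comp {n n' : ℕ} {D : M →ₗ[A] N} {E : N →ₗ[A] P}
    (hD : IsDiffOpLE A B M N n D) (hE : IsDiffOpLE A B N P n' E) :
    IsDiffOpLE A B M P (n + n') (E ∘ₗ D) := IsDiffOpLE.comp_le _ rfl hD hE

theorem IsDiffOpLE.comp_lsmul {n : ℕ} {D : M →ₗ[A] N} (c : B) (hD : IsDiffOpLE A B M N n D) :
    IsDiffOpLE A B M N n (D ∘ₗ (LinearMap.lsmul B M c).restrictScalars A) := by
  have h0 : IsDiffOpLE A B M M 0 ((LinearMap.lsmul B M c).restrictScalars A) :=
    fun b m => smul_comm c b m
  exact IsDiffOpLE.comp_le n (by omega) h0 hD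

/-- Commutators only need to be tested on algebra generators. -/
theorem isDiffOpLE_succ_of_adjoin (s : Set B) (hs : Algebra.adjoin A s = ⊤) (n : ℕ) (D : M →ₗ[A] N)
    (hD : ∀ g ∈ s, IsDiffOpLE A B M N n (commutator A B M N D g)) :
    IsDiffOpLE A B M N (n + 1) D := by
  intro b
  have hb : b ∈ Algebra.adjoin A s := hs ▸ Algebra.mem_top
  induction hb using Algebra.adjoin_induction with
  | mem x hx => exact hD x hx
  | algebraMap a => rw [comm_algebraMap]; exact IsDiffOpLE.zero n
  | add x y _ _ hx hy => rw [comm_add_right]; exact IsDiffOpLE.add hx hy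
  | mul x y _ _ hx hy =>
    rw [comm_mul]; exact IsDiffOpLE.add (IsDiffOpLE.comp_lsmul y hx) (IsDiffOpLE.smul x hy)

end

section linearize

variable {A B : Type u} [CommRing A] [CommRing B] [Algebra A B]
variable {N : Type u} [AddCommGroup N] [Module A N] [Module B N] [IsScalarTower A B N]

theorem linearize_tmul (D : B →ₗ[A] N) (b c : B) : linearize A B B N D (b ⊗ₜ c) = b • D c := rfl

theorem linearize_mul_delta (D : B →ₗ[A] N) (b : B) (x : B ⊗[A] B) :
    linearize A B B N D (x * ((1 : B) ⊗ₜ[A] b - b ⊗ₜ[A] (1 : B))) =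
      linearize A B B N (commutator A B B N D b) x := by
  induction x using TensorProduct.induction_on with
  | zero => simp
  | tmul c d =>
    rw [mul_sub, Algebra.TensorProduct.tmul_mul_tmul, Algebra.TensorProduct.tmul_mul_tmul,
      map_sub, linearize_tmul, linearize_tmul, linearize_tmul, comm_apply, mul_one, mul_one,
      smul_sub, mul_smul, smul_eq_mul, mul_comm d b]
  | add x y hx hy => rw [add_mul, map_add, map_add, hx, hy]

/-- If `linearize` of every commutator vanishes on an ideal `J`, it vanishes on `J * I`. -/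
theorem linearize_eq_zero_of_mul (D : B →ₗ[A] N) (J : Ideal (B ⊗[A] B))
    (h : ∀ b, ∀ x ∈ J, linearize A B B N (commutator A B B N D b) x = 0) :
    ∀ x ∈ J * KaehlerDifferential.ideal A B, linearize A B B N D x = 0 := by
  intro x hx
  induction hx using Submodule.mul_induction_on' with
  | mem_mul_mem j hj i hi =>
    rw [← KaehlerDifferential.span_range_eq_ideal] at hi
    induction hi using Submodule.span_induction generalizing j with
    | mem y hy => obtain ⟨b, rfl⟩ := hy; rw [linearize_mul_delta]; exact h b j hj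
    | zero => simp
    | add y z _ _ hy hz => rw [mul_add, map_add, hy j hj, hz j hj, add_zero]
    | smul r y _ hy => rw [smul_eq_mul, ← mul_assoc]; exact hy (j * r) (J.mul_mem_right r hj)
  | add x _ y _ hx hy => rw [map_add, hx, hy, add_zero]

theorem isDiffOpLE_iff_linearize : ∀ (n : ℕ) (D : B →ₗ[A] N),
    IsDiffOpLE A B B N n D ↔
      ∀ x ∈ (KaehlerDifferential.ideal A B) ^ (n + 1), linearize A B B N D x = 0 := by
  intro n
  induction n with
  | zero =>
    intro D
    rw [zero_add, pow_one, isDiffOpLE_zero_iff_comm]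
    constructor
    · intro h x hx
      refine linearize_eq_zero_of_mul D ⊤ (fun b y _ => ?_) x (by rwa [Ideal.top_mul])
      rw [h b]
      induction y using TensorProduct.induction_on with
      | zero => simp
      | tmul c d => simp [linearize_tmul]
      | add p q hp hq => rw [map_add, hp trivial, hq trivial, add_zero]
    · intro h b
      ext c
      have := h _ (Ideal.mul_mem_left _ ((1 : B) ⊗ₜ[A] c)
        (KaehlerDifferential.one_smul_sub_smul_one_mem_ideal A b))
      rw [linearize_mul_delta, linearize_tmul, one_smul] at this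
      simpa using this
  | succ n ih =>
    intro D
    rw [isDiffOpLE_succ_iff, pow_succ _ (n + 1)]
    constructor
    · intro h
      exact linearize_eq_zero_of_mul D _ (fun b => (ih _).1 (h b))
    · intro h b
      refine (ih _).2 fun x hx => ?_
      rw [← linearize_mul_delta]
      exact h _ (Ideal.mul_mem_mul hx (KaehlerDifferential.one_smul_sub_smul_one_mem_ideal A b))

end linearize

section altSum

variable {A B : Type u} [CommRing A] [CommRing B] [Algebra A B]
variable {M N : Type v} [AddCommGroup M] [Module A M] [Module B M] [IsScalarTower A B M]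
  [AddCommGroup N] [Module A N] [Module B N] [IsScalarTower A B N]

/-- The alternating sum over the subsets of `s`. -/
noncomputable def altSum {ι : Type*} [DecidableEq ι] (D : M →ₗ[A] N) (s : Finset ι) (b : ι → B)
    (t : M) : N :=
  ∑ H ∈ s.powerset, ((-1 : ℤ) ^ H.card) • ((∏ i ∈ H, b i) • D ((∏ i ∈ s \ H, b i) • t))

theorem altSum_insert {ι : Type*} [DecidableEq ι] (D : M →ₗ[A] N) (s : Finset ι) (b : ι → B)
    (t : M) (a : ι) (ha : a ∉ s) :
    altSum D (insert a s) b t = altSum (commutator A B M N D (b a)) s b t := by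
  simp only [altSum]
  rw [Finset.sum_powerset_insert ha, ← Finset.sum_add_distrib]
  refine Finset.sum_congr rfl fun H hH => ?_
  have haH : a ∉ H := fun h => ha (Finset.mem_powerset.1 hH h)
  rw [Finset.insert_sdiff_of_notMem _ haH, Finset.prod_insert (by simp [ha]),
    Finset.card_insert_of_notMem haH, Finset.prod_insert haH,
    Finset.insert_sdiff_insert, Finset.sdiff_insert_of_notMem ha, comm_apply, mul_smul, mul_smul,
    smul_sub, smul_sub, pow_succ, mul_neg, mul_one, neg_smul, sub_eq_add_neg]
  rw [smul_comm (∏ x ∈ H, b x) (b a)]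

theorem altSum_map {ι κ : Type*} [DecidableEq ι] [DecidableEq κ] (e : ι ↪ κ) (b : κ → B) (t : M)
    (s : Finset ι) (D : M →ₗ[A] N) : altSum D (s.map e) b t = altSum D s (b ∘ e) t := by
  induction s using Finset.induction_on generalizing D with
  | empty => simp [altSum]
  | insert a s ha ih =>
    rw [Finset.map_insert, altSum_insert D _ b t (e a) (by simpa using ha),
      altSum_insert D _ _ t a ha, ih]
    rfl

theorem altSum_univ_succ (n : ℕ) (D : M →ₗ[A] N) (b : Fin (n + 1) → B) (t : M) :
    altSum D Finset.univ b t =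
      altSum (commutator A B M N D (b 0)) Finset.univ (b ∘ Fin.succ) t := by
  have h : (Finset.univ : Finset (Fin (n + 1))) =
      insert 0 ((Finset.univ : Finset (Fin n)).map ⟨Fin.succ, Fin.succ_injective n⟩) := by
    ext i; cases i using Fin.cases <;> simp
  rw [h, altSum_insert _ _ _ _ _ (by simp [Fin.succ_ne_zero]), altSum_map]
  rfl

theorem isDiffOpLE_iff_altSum : ∀ (n : ℕ) (D : M →ₗ[A] N),
    IsDiffOpLE A B M N n D ↔ ∀ (b : Fin (n + 1) → B) (t : M), altSum D Finset.univ b t = 0 := by
  intro n
  induction n with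
  | zero =>
    intro D
    rw [isDiffOpLE_zero_iff_comm]
    constructor
    · intro h b t
      rw [altSum_univ_succ, h]; simp [altSum]
    · intro h c
      ext t
      have := h (fun _ => c) t
      rw [altSum_univ_succ] at this
      simpa [altSum] using this
  | succ n ih =>
    intro D
    rw [isDiffOpLE_succ_iff]
    constructor
    · intro h b t
      rw [altSum_univ_succ]; exact (ih _).1 (h _) _ _
    · intro h c
      refine (ih _).2 fun b t => ?_
      have := h (Fin.cons c b) t
      rw [altSum_univ_succ] at this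
      simpa using this

theorem altSum_univ_eq {n : ℕ} (D : M →ₗ[A] N) (b : Fin n → B) (t : M) :
    altSum D Finset.univ b t =
      ∑ H : Finset (Fin n), ((-1 : ℤ) ^ H.card) • ((∏ i ∈ H, b i) • D ((∏ i ∈ Hᶜ, b i) • t)) := by
  simp only [altSum, Finset.powerset_univ, Finset.compl_eq_univ_sdiff]

end altSum

end Groth.Agent.Diff16
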