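import Groth.Agent.Diff16.Basic
import Mathlib.RingTheory.Smooth.Basic
import Mathlib.RingTheory.MvPolynomial.Ideal

set_option autoImplicit false
set_option linter.unusedSectionVars false

open scoped TensorProduct BigOperators
open MvPolynomial

namespace Groth.Agent.Diff16

open _root_.Diff16

universe u

variable {A B : Type u} [CommRing A] [CommRing B] [Algebra A B] {ι : Type*} [Fintype ι]

section uniqueness

variable {N : Type u} [AddCommGroup N] [Module A N] [Module B N] [IsScalarTower A B N]

/-- The derivation `b ↦ D b - b • D 1` of an operator of order at most one. -/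
noncomputable def derivationOfLE (D : B →ₗ[A] N) (hD : IsDiffOpLE A B B N 1 D) :
    Derivation A B N :=
  Derivation.mk'
    { toFun := fun b => D b - b • D 1
      map_add' := fun x y => by simp only [map_add, add_smul]; abel
      map_smul' := fun a x => by simp [smul_assoc, smul_sub] }
    fun b c => by
      have h := hD b c 1
      simp only [comm_apply, smul_eq_mul, mul_one] at h
      change D (b * c) - (b * c) • D 1 = b • (D c - c • D 1) + c • (D b - b • D 1)
      rw [smul_sub, smul_sub, smul_smul, smul_smul, mul_comm c b]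
      rw [smul_sub, smul_smul, mul_comm c b, sub_eq_iff_eq_add] at h
      rw [h]; abel

theorem isDiffOpLE_zero_of_comm (z : ι → B)
    (hz : Submodule.span B (Set.range fun i => KaehlerDifferential.D A B (z i)) = ⊤) :
    ∀ (m : ℕ) (D : B →ₗ[A] N), IsDiffOpLE A B B N m D →
      (∀ i, commutator A B B N D (z i) = 0) → IsDiffOpLE A B B N 0 D := by
  intro m
  induction m with
  | zero => intro D h _; exact h
  | succ m ih =>
    intro D h hc
    have h1 : IsDiffOpLE A B B N 1 D := fun b => ih _ (h b) fun i => by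
      rw [comm_comm, hc i, comm_zero]
    have key : (derivationOfLE D h1).liftKaehlerDifferential = 0 := by
      refine LinearMap.ext_on hz ?_
      rintro _ ⟨i, rfl⟩
      rw [Derivation.liftKaehlerDifferential_comp_D]
      have := LinearMap.congr_fun (hc i) 1
      simpa [comm_apply, derivationOfLE] using this
    intro b c
    have e : ∀ x, D x = x • D 1 := fun x => by
      have := (derivationOfLE D h1).liftKaehlerDifferential_comp_D x
      rw [key, LinearMap.zero_apply] at this
      simpa [derivationOfLE, sub_eq_zero] using this.symm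
    rw [e (b • c), e c, smul_eq_mul, mul_smul]

theorem eq_zero_of_monomials (z : ι → B)
    (hz : Submodule.span B (Set.range fun i => KaehlerDifferential.D A B (z i)) = ⊤) :
    ∀ (m : ℕ) (D : B →ₗ[A] N), IsDiffOpLE A B B N m D →
      (∀ q : ι → ℕ, D (∏ i, z i ^ q i) = 0) → D = 0 := by
  classical
  intro m
  induction m with
  | zero =>
    intro D h hq
    ext b
    have := hq 0
    simp only [Pi.zero_apply, pow_zero, Finset.prod_const_one] at this
    rw [← mul_one b, ← smul_eq_mul, h b 1, this, smul_zero, LinearMap.zero_apply]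
  | succ m ih =>
    intro D h hq
    have hc : ∀ i, commutator A B B N D (z i) = 0 := fun i => ih _ (h (z i)) fun q => by
      rw [comm_apply, hq, smul_zero, sub_zero, smul_eq_mul]
      have e : z i * ∏ j, z j ^ q j = ∏ j, z j ^ (Function.update q i (q i + 1)) j := by
        rw [Finset.prod_eq_mul_prod_sdiff_singleton_of_mem (Finset.mem_univ i),
          Finset.prod_eq_mul_prod_sdiff_singleton_of_mem (Finset.mem_univ i), Function.update_self,
          pow_succ, ← mul_assoc, mul_comm (z i)]
        congr 1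
        refine Finset.prod_congr rfl fun j hj => ?_
        rw [Function.update_of_ne (by simpa using hj)]
      rw [e]; exact hq _
    have h0 := isDiffOpLE_zero_of_comm z hz _ D h hc
    ext b
    have := hq 0
    simp only [Pi.zero_apply, pow_zero, Finset.prod_const_one] at this
    rw [← mul_one b, ← smul_eq_mul, h0 b 1, this, smul_zero, LinearMap.zero_apply]

theorem eq_of_monomials (z : ι → B)
    (hz : Submodule.span B (Set.range fun i => KaehlerDifferential.D A B (z i)) = ⊤)
    {m n : ℕ} {D E : B →ₗ[A] N} (hD : IsDiffOpLE A B B N m D) (hE : IsDiffOpLE A B B N n E)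
    (hq : ∀ q : ι → ℕ, D (∏ i, z i ^ q i) = E (∏ i, z i ^ q i)) : D = E :=
  sub_eq_zero.1 <| eq_zero_of_monomials z hz (max m n) (D - E)
    (IsDiffOpLE.sub (IsDiffOpLE.mono (le_max_left m n) hD) (IsDiffOpLE.mono (le_max_right m n) hE))
    fun q => by simp [hq q]

/-- The order can be tested on coordinates, for operators of finite order. -/
theorem isDiffOpLE_succ_of_coord (z : ι → B)
    (hz : Submodule.span B (Set.range fun i => KaehlerDifferential.D A B (z i)) = ⊤) :
    ∀ (n m : ℕ) (D : B →ₗ[A] N), IsDiffOpLE A B B N m D →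
      (∀ i, IsDiffOpLE A B B N n (commutator A B B N D (z i))) → IsDiffOpLE A B B N (n + 1) D := by
  intro n
  induction n with
  | zero =>
    intro m D h hc b
    refine isDiffOpLE_zero_of_comm z hz m _ (IsDiffOpLE.succ h b) fun i => ?_
    rw [comm_comm]
    exact (isDiffOpLE_zero_iff_comm _).1 (hc i) b
  | succ n ih =>
    intro m D h hc b
    refine ih m _ (IsDiffOpLE.succ h b) fun i => ?_
    rw [comm_comm]
    exact hc i b

end uniqueness

section taylor

variable (A B ι)

/-- Truncated polynomials. -/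
abbrev Trunc (m : ℕ) : Type _ := MvPolynomial ι B ⧸ (idealOfVars ι B) ^ (m + 1)

variable {A B ι}

theorem exists_taylor [Algebra.FormallySmooth A B] (z : ι → B)
    (b₀ : Module.Basis ι B (KaehlerDifferential A B))
    (hb₀ : ∀ i, b₀ i = KaehlerDifferential.D A B (z i)) :
    ∀ m : ℕ, ∃ ψ : B →ₐ[A] Trunc B ι m,
      (∀ b, ψ b - algebraMap B (Trunc B ι m) b ∈ (idealOfVars ι B).map (Ideal.Quotient.mk _)) ∧
      ∀ i, ψ (z i) = Ideal.Quotient.mk _ (C (z i) + X i) := by
  intro m
  induction m with
  | zero =>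
    refine ⟨IsScalarTower.toAlgHom A B _, fun b => by simp, fun i => ?_⟩
    rw [IsScalarTower.coe_toAlgHom', map_add]
    have : Ideal.Quotient.mk (idealOfVars ι B ^ (0 + 1)) (X i) = 0 :=
      Ideal.Quotient.eq_zero_iff_mem.2 (by rw [zero_add, pow_one]; exact Ideal.subset_span ⟨i, rfl⟩)
    rw [this, add_zero]
    rfl
  | succ m ih =>
    classical
    obtain ⟨ψ, hψ, hψz⟩ := ih
    let J : Ideal (MvPolynomial ι B) := idealOfVars ι B
    let g : Trunc B ι (m + 1) →ₐ[A] Trunc B ι m :=
      Ideal.Quotient.factorₐ A (Ideal.pow_le_pow_right (show m + 1 ≤ m + 1 + 1 by omega))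
    have hgmk : ∀ x : MvPolynomial ι B, g (Ideal.Quotient.mk _ x) = Ideal.Quotient.mk _ x :=
      fun x => rfl
    have hg : Function.Surjective g := fun y => by
      obtain ⟨x, rfl⟩ := Ideal.Quotient.mk_surjective y; exact ⟨_, hgmk x⟩
    have hker : RingHom.ker (g : Trunc B ι (m + 1) →+* Trunc B ι m) =
        (J ^ (m + 1)).map (Ideal.Quotient.mk _) := by
      ext y
      obtain ⟨x, rfl⟩ := Ideal.Quotient.mk_surjective y
      rw [RingHom.mem_ker, RingHom.coe_coe, hgmk, Ideal.Quotient.eq_zero_iff_mem,
        Ideal.mem_quotient_iff_mem]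
      exact Ideal.pow_le_pow_right (by omega)
    have hmk0 : (J ^ (m + 2)).map (Ideal.Quotient.mk (J ^ (m + 1 + 1))) = ⊥ :=
      Ideal.map_quotient_self _
    have hnil : IsNilpotent (RingHom.ker (g : Trunc B ι (m + 1) →+* Trunc B ι m)) := by
      refine ⟨2, ?_⟩
      rw [hker, ← Ideal.map_pow, ← pow_mul, Ideal.zero_eq_bot, eq_bot_iff, ← hmk0]
      exact Ideal.map_mono (Ideal.pow_le_pow_right (by omega))
    let φ : B →ₐ[A] Trunc B ι (m + 1) := Algebra.FormallySmooth.liftOfSurjective ψ g hg hnil
    have hφ : ∀ b, g (φ b) = ψ b := Algebra.FormallySmooth.liftOfSurjective_apply ψ g hg hnil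
    have hφJ : ∀ b, φ b - algebraMap B _ b ∈ J.map (Ideal.Quotient.mk _) := by
      intro b
      obtain ⟨x, hx⟩ := Ideal.Quotient.mk_surjective (φ b - algebraMap B _ b)
      have h1 := congrArg g hx
      rw [hgmk, map_sub, hφ] at h1
      have h2 : g (algebraMap B (Trunc B ι (m + 1)) b) = algebraMap B _ b := rfl
      rw [h2] at h1
      have h3 := hψ b
      rw [← h1, Ideal.mem_quotient_iff_mem (Ideal.pow_le_self (by omega))] at h3
      rw [← hx]
      exact Ideal.mem_map_of_mem _ h3
    let e : ι → Trunc B ι (m + 1) := fun i => φ (z i) - Ideal.Quotient.mk _ (C (z i) + X i)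
    have he : ∀ i, e i ∈ (J ^ (m + 1)).map (Ideal.Quotient.mk _) := fun i => by
      rw [← hker, RingHom.mem_ker, RingHom.coe_coe, map_sub, hφ, hgmk, hψz, sub_self]
    let pd : ι → B →ₗ[A] B := fun i =>
      ((b₀.coord i).restrictScalars A) ∘ₗ (KaehlerDifferential.D A B).toLinearMap
    let d : B →ₗ[A] Trunc B ι (m + 1) :=
      ∑ i, (LinearMap.mulRight A (e i)) ∘ₗ (IsScalarTower.toAlgHom A B _).toLinearMap ∘ₗ pd i
    have hd : ∀ b, d b = ∑ i, algebraMap B _ (pd i b) * e i := fun b => by
      simp [d, LinearMap.sum_apply]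
    have hd1 : ∀ b, d b ∈ (J ^ (m + 1)).map (Ideal.Quotient.mk _) := fun b => by
      rw [hd]; exact Ideal.sum_mem _ fun i _ => Ideal.mul_mem_left _ _ (he i)
    have hzero : ∀ x ∈ J.map (Ideal.Quotient.mk (J ^ (m + 1 + 1))),
        ∀ y ∈ (J ^ (m + 1)).map (Ideal.Quotient.mk (J ^ (m + 1 + 1))), x * y = 0 := by
      intro x hx y hy
      have := Ideal.mul_mem_mul hx hy
      rw [← Ideal.map_mul, ← pow_succ' J (m + 1)] at this
      rwa [Ideal.map_quotient_self, Ideal.mem_bot] at this
    have hdmul : ∀ b c, d (b * c) = φ b * d c + φ c * d b := by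
      intro b c
      have hb : φ b * d c = algebraMap B _ b * d c := by
        rw [← sub_eq_zero, ← sub_mul]; exact hzero _ (hφJ b) _ (hd1 c)
      have hc : φ c * d b = algebraMap B _ c * d b := by
        rw [← sub_eq_zero, ← sub_mul]; exact hzero _ (hφJ c) _ (hd1 b)
      rw [hb, hc, hd, hd, hd, Finset.mul_sum, Finset.mul_sum, ← Finset.sum_add_distrib]
      refine Finset.sum_congr rfl fun i _ => ?_
      have : pd i (b * c) = b * pd i c + c * pd i b := by simp [pd, Derivation.leibniz]
      rw [this, map_add, map_mul, map_mul]; ring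
    have hdd : ∀ b c, d b * d c = 0 := fun b c =>
      hzero _ (Ideal.map_mono (Ideal.pow_le_self (by omega)) (hd1 b)) _ (hd1 c)
    let φ' : B →ₐ[A] Trunc B ι (m + 1) := AlgHom.ofLinearMap (φ.toLinearMap - d)
      (by
        have : d 1 = 0 := by rw [hd]; simp [pd]
        simp [this])
      (fun b c => by
        simp only [LinearMap.sub_apply, AlgHom.toLinearMap_apply, map_mul, hdmul]
        linear_combination -hdd b c)
    have hφ' : ∀ b, φ' b = φ b - d b := fun b => rfl
    refine ⟨φ', fun b => ?_, fun i => ?_⟩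
    · rw [hφ', sub_right_comm]
      exact Ideal.sub_mem _ (hφJ b) (Ideal.map_mono (Ideal.pow_le_self (by omega)) (hd1 b))
    · have : ∀ j, pd j (z i) = if j = i then 1 else 0 := fun j => by
        simp [pd, ← hb₀, Finsupp.single_apply, eq_comm]
      rw [hφ', hd, Finset.sum_eq_single i (fun j _ hj => by simp [this j, hj]) (by simp), this i,
        if_pos rfl, map_one, one_mul]
      simp [e]

theorem coeff_prod_add_pow (z : ι → B) (p q : ι → ℕ) :
    coeff (Finsupp.equivFunOnFinite.symm p) (∏ i, (C (z i) + X i) ^ q i : MvPolynomial ι B) =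
      ((∏ i, Nat.choose (q i) (p i) : ℕ) : B) * ∏ i, z i ^ (q i - p i) := by
  classical
  have expand : (∏ i, (C (z i) + X i) ^ q i : MvPolynomial ι B) =
      ∑ k ∈ Fintype.piFinset (fun i => Finset.range (q i + 1)),
        monomial (Finsupp.equivFunOnFinite.symm k)
          (((∏ i, Nat.choose (q i) (k i) : ℕ) : B) * ∏ i, z i ^ (q i - k i)) := by
    simp_rw [add_comm (C (z _)) (X _), add_pow]
    rw [Finset.prod_univ_sum]
    refine Finset.sum_congr rfl fun k _ => ?_
    rw [monomial_eq, Finsupp.prod_fintype _ _ (fun i => pow_zero _)]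
    simp only [Finsupp.equivFunOnFinite_symm_apply_apply, Nat.cast_prod, map_prod, map_mul,
      map_natCast, map_pow, Finset.prod_mul_distrib]
    ring
  rw [expand, coeff_sum]
  simp only [coeff_monomial]
  rw [Finset.sum_eq_single p]
  · rw [if_pos rfl]
  · intro k _ hk
    rw [if_neg (fun h => hk (Finsupp.equivFunOnFinite.symm.injective h))]
  · intro hp
    simp only [Fintype.mem_piFinset, Finset.mem_range, not_forall, not_lt] at hp
    obtain ⟨i, hi⟩ := hp
    rw [if_pos rfl, Finset.prod_eq_zero (Finset.mem_univ i) (Nat.choose_eq_zero_of_lt (by omega)),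
      Nat.cast_zero, zero_mul]

theorem exists_dividedPower [Algebra.FormallySmooth A B] (z : ι → B)
    (b₀ : Module.Basis ι B (KaehlerDifferential A B))
    (hb₀ : ∀ i, b₀ i = KaehlerDifferential.D A B (z i)) (p : ι → ℕ) :
    ∃ D : B →ₗ[A] B, IsDiffOpLE A B B B (∑ i, p i) D ∧ ∀ q : ι → ℕ, D (∏ i, z i ^ q i) =
      ((∏ i, Nat.choose (q i) (p i) : ℕ) : B) * ∏ i, z i ^ (q i - p i) := by
  classical
  obtain ⟨ψ, hψ, hψz⟩ := exists_taylor z b₀ hb₀ (∑ i, p i)
  let p' : ι →₀ ℕ := Finsupp.equivFunOnFinite.symm p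
  have hdeg : Finsupp.degree p' = ∑ i, p i := by
    rw [Finsupp.degree_eq_sum]; rfl
  let cp : Trunc B ι (∑ i, p i) →ₗ[B] B :=
    Submodule.liftQ ((idealOfVars ι B ^ (∑ i, p i + 1)).restrictScalars B) (lcoeff B p') fun x hx => by
      rw [Submodule.restrictScalars_mem, mem_pow_idealOfVars_iff'] at hx
      exact hx p' (by omega)
  have hcp : ∀ x, cp (Ideal.Quotient.mk _ x) = coeff p' x := fun x => rfl
  refine ⟨cp.restrictScalars A ∘ₗ ψ.toLinearMap, ?_, fun q => ?_⟩
  · rw [isDiffOpLE_iff_linearize]
    let Ψ : B ⊗[A] B →ₐ[A] Trunc B ι (∑ i, p i) :=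
      Algebra.TensorProduct.lift (IsScalarTower.toAlgHom A B _) ψ fun _ _ => Commute.all _ _
    have hΨ : ∀ x, linearize A B B B (cp.restrictScalars A ∘ₗ ψ.toLinearMap) x = cp (Ψ x) := by
      intro x
      induction x using TensorProduct.induction_on with
      | zero => simp
      | tmul b c =>
        simp only [Ψ, linearize_tmul, Algebra.TensorProduct.lift_tmul, IsScalarTower.coe_toAlgHom',
          LinearMap.comp_apply, LinearMap.restrictScalars_apply, AlgHom.toLinearMap_apply,
          smul_eq_mul]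
        rw [← Algebra.smul_def, map_smul, smul_eq_mul]
      | add x y hx hy => rw [map_add, map_add, map_add, hx, hy]
    have hI : (KaehlerDifferential.ideal A B).map Ψ ≤
        (idealOfVars ι B).map (Ideal.Quotient.mk _) := by
      rw [← KaehlerDifferential.span_range_eq_ideal, Ideal.map_span, Ideal.span_le]
      rintro _ ⟨_, ⟨b, rfl⟩, rfl⟩
      simpa [Ψ] using hψ b
    intro x hx
    have : Ψ x ∈ ((idealOfVars ι B).map (Ideal.Quotient.mk _)) ^ (∑ i, p i + 1) :=
      Ideal.pow_right_mono hI _ (by rw [← Ideal.map_pow]; exact Ideal.mem_map_of_mem _ hx)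
    rw [← Ideal.map_pow, Ideal.map_quotient_self, Ideal.mem_bot] at this
    rw [hΨ, this, map_zero]
  · change cp (ψ (∏ i, z i ^ q i)) = _
    rw [map_prod]
    simp only [map_pow, hψz]
    simp only [← map_pow, ← map_prod]
    rw [hcp, coeff_prod_add_pow]

end taylor

theorem choose_mul_choose_sub (r p q : ℕ) :
    r.choose q * (r - q).choose p = (p + q).choose p * r.choose (p + q) := by
  rw [Nat.choose_symm_add, mul_comm _ (r.choose (p + q)),
    Nat.choose_mul (Nat.le_add_left q p), Nat.add_sub_cancel]

end Groth.Agent.Diff16
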